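import Mathlib.AlgebraicGeometry.Geometrically.Reduced
import Mathlib.AlgebraicGeometry.Geometrically.Connected
import Mathlib.AlgebraicGeometry.Morphisms.Flat
import Mathlib.FieldTheory.IsAlgClosed.AlgebraicClosure
import Groth.Prelude.Def_StCurv2
import Groth.Agent.Lib.Dim.Scheme

/-!
# Loci in the stack of curves read at field-valued points
-/

universe u

open CategoryTheory Limits AlgebraicGeometry Topology TopologicalSpace

namespace GrothLib.CurveLocus

/-- Geometric fibre conditions (ignoring marked points) of a family with scheme total space. -/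
theorem geomFib_toSpFam_iff {S : Scheme.{u}} {n : ℕ}
    (P : ∀ (Ω : Type u) [Field Ω] [IsAlgClosed Ω] (X' : Scheme.{u}),
      (X' ⟶ Spec (CommRingCat.of Ω)) → Prop) (A : CurvSt.PtFamObj S n) :
    CurvSt.GeomFib (fun Ω _ _ X' q _ => P Ω X' q) ((CurvSt.toSpFam S n).obj A) ↔
      ∀ (Ω : Type u) [Field Ω] [IsAlgClosed Ω] (t : Spec (CommRingCat.of Ω) ⟶ A.base.left)
        (X' : Scheme.{u}) (i : X' ⟶ A.C) (q : X' ⟶ Spec (CommRingCat.of Ω)),
        IsPullback i q A.f t → P Ω X' q := by
  set B := (CurvSt.toSpFam S n).obj A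
  constructor
  · intro h Ω _ _ t X' i q hsq
    have w : i ≫ A.f ≫ A.base.hom = (q ≫ t) ≫ A.base.hom := by
      rw [← Category.assoc, hsq.w]
    let iO : B.ptOver (q ≫ t) ⟶ A.totOver := Over.homMk i w
    have hO : IsPullback iO (B.fibHom t q) A.fOver (B.ptHom t) :=
      IsPullback.of_map (Over.forget S) (Over.OverMorphism.ext hsq.w) hsq
    exact h Ω t X' q ((AlgSp.yon S).map iO) (hO.map (AlgSp.yon S))
  · intro h Ω _ _ t X' q i hP
    have hf : (AlgSp.yon S).map ((AlgSp.yon S).preimage i) = i := (AlgSp.yon S).map_preimage i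
    have hP' : IsPullback ((AlgSp.yon S).map ((AlgSp.yon S).preimage i))
        ((AlgSp.yon S).map (B.fibHom t q)) ((AlgSp.yon S).map A.fOver)
        ((AlgSp.yon S).map (B.ptHom t)) := by
      rw [hf]; exact hP
    have hO : IsPullback ((AlgSp.yon S).preimage i) (B.fibHom t q) A.fOver (B.ptHom t) :=
      IsPullback.of_map (AlgSp.yon S) ((AlgSp.yon S).map_injective (by
        rw [Functor.map_comp, Functor.map_comp]; exact hP'.w)) hP'
    exact h Ω t X' _ q (hO.map (Over.forget S))

/-- The target of a flat surjection from a reduced scheme is reduced. -/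
theorem isReduced_of_flat_of_surjective {X Y : Scheme.{u}} (f : X ⟶ Y) [Flat f] [Surjective f]
    [IsReduced X] : IsReduced Y := by
  have : ∀ y : Y, _root_.IsReduced (Y.presheaf.stalk y) := by
    intro y
    obtain ⟨x, rfl⟩ := f.surjective y
    algebraize [(f.stalkMap x).hom]
    have : Module.FaithfullyFlat (Y.presheaf.stalk (f x)) (X.presheaf.stalk x) :=
      @Module.FaithfullyFlat.of_flat_of_isLocalHom _ _ _ _ _ _ _
        (Flat.stalkMap f x) (f.toLRSHom.prop x)
    exact isReduced_of_injective (f.stalkMap x).hom ‹RingHom.FaithfullyFlat _›.injective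
  exact isReduced_of_isReduced_stalk Y

variable {k : Type u} [Field k]

theorem flat_to_spec_field {X : Scheme.{u}} (p : X ⟶ Spec (CommRingCat.of k)) : Flat p := by
  infer_instance

theorem surjective_to_spec_field {X : Scheme.{u}} [Nonempty X] (p : X ⟶ Spec (CommRingCat.of k)) :
    Surjective p :=
  ⟨fun _ => ⟨Classical.arbitrary _, Subsingleton.elim (α := Spec (CommRingCat.of k)) _ _⟩⟩

/-- A property descending along flat surjections holds geometrically as soon as it holds for all
algebraically closed field extensions. -/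
theorem geometrically_of_isAlgClosed {X Y : Scheme.{u}} (f : X ⟶ Y) (P : ObjectProperty Scheme.{u})
    (hdesc : ∀ {Z' Z : Scheme.{u}} (π : Z' ⟶ Z) [Flat π] [Surjective π], P Z' → P Z)
    (H : ∀ (Ω : Type u) [Field Ω] [IsAlgClosed Ω] (t : Spec (CommRingCat.of Ω) ⟶ Y) (X' : Scheme.{u})
      (i : X' ⟶ X) (q : X' ⟶ Spec (CommRingCat.of Ω)), IsPullback i q f t → P X') :
    geometrically P f := by
  intro K _ y Z fst snd hsq
  let σ := Spec.map (CommRingCat.ofHom (algebraMap K (AlgebraicClosure K)))
  have : Surjective σ := surjective_to_spec_field σ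
  have : Flat σ := flat_to_spec_field σ
  exact hdesc (pullback.fst snd σ) (H (AlgebraicClosure K) (σ ≫ y) _ _ (pullback.snd snd σ)
    ((IsPullback.of_hasPullback snd σ).paste_horiz hsq))

theorem geometricallyReduced_iff {X Y : Scheme.{u}} (f : X ⟶ Y) :
    GeometricallyReduced f ↔ ∀ (Ω : Type u) [Field Ω] [IsAlgClosed Ω]
      (t : Spec (CommRingCat.of Ω) ⟶ Y) (X' : Scheme.{u})
      (i : X' ⟶ X) (q : X' ⟶ Spec (CommRingCat.of Ω)), IsPullback i q f t → IsReduced X' :=
  ⟨fun h Ω _ _ t X' i q hsq => h.geometrically_isReduced t i q hsq,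
    fun H => ⟨geometrically_of_isAlgClosed f _
      (fun π _ _ (h : IsReduced _) => isReduced_of_flat_of_surjective π) H⟩⟩

theorem geometricallyConnected_iff {X Y : Scheme.{u}} (f : X ⟶ Y) :
    GeometricallyConnected f ↔ ∀ (Ω : Type u) [Field Ω] [IsAlgClosed Ω]
      (t : Spec (CommRingCat.of Ω) ⟶ Y) (X' : Scheme.{u})
      (i : X' ⟶ X) (q : X' ⟶ Spec (CommRingCat.of Ω)), IsPullback i q f t → ConnectedSpace ↥X' :=
  ⟨fun h Ω _ _ t X' i q hsq => h.geometrically_connectedSpace t i q hsq,
    fun H => ⟨geometrically_of_isAlgClosed f _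
      (fun π _ _ (h : ConnectedSpace _) => π.surjective.connectedSpace π.continuous) H⟩⟩

/-- A morphism from a spectrum of a field to the spectrum of a field comes from a field extension. -/
theorem exists_algebra {Ω : Type u} [Field Ω] (t : Spec (CommRingCat.of Ω) ⟶ Spec (CommRingCat.of k)) :
    ∃ alg : Algebra k Ω, t = Spec.map (CommRingCat.ofHom (@algebraMap k Ω _ _ alg)) :=
  ⟨(Spec.preimage t).hom.toAlgebra, by
    change t = Spec.map (CommRingCat.ofHom (Spec.preimage t).hom)
    rw [CommRingCat.ofHom_hom, Spec.map_preimage]⟩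

/-- A subset whose image under an inducing map is irreducible is irreducible. -/
theorem isPreirreducible_of_image {A B : Type*} [TopologicalSpace A] [TopologicalSpace B] {f : A → B}
    (hf : IsInducing f) {s : Set A} (h : IsPreirreducible (f '' s)) : IsPreirreducible s := by
  intro u v hu hv ⟨a, ha, hau⟩ ⟨b, hb, hbv⟩
  obtain ⟨U, hU, rfl⟩ := hf.isOpen_iff.1 hu
  obtain ⟨V, hV, rfl⟩ := hf.isOpen_iff.1 hv
  obtain ⟨_, ⟨x, hx, rfl⟩, hx'⟩ := h U V hU hV ⟨f a, ⟨a, ha, rfl⟩, hau⟩ ⟨f b, ⟨b, hb, rfl⟩, hbv⟩
  exact ⟨x, hx, hx'⟩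

/-- The dimension of a topological space is at most the supremum over irreducible components. -/
theorem topologicalKrullDim_le_of_components {T : Type*} [TopologicalSpace T] (n : WithBot ℕ∞)
    (h : ∀ W ∈ irreducibleComponents T, topologicalKrullDim W ≤ n) : topologicalKrullDim T ≤ n := by
  unfold topologicalKrullDim Order.krullDim
  refine iSup_le fun c => ?_
  obtain ⟨W, hW, hsub⟩ := exists_mem_irreducibleComponents_subset_of_isIrreducible _ c.last.isIrreducible
  refine le_trans ?_ (h W hW)
  have hWc := isClosed_of_mem_irreducibleComponents W hW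
  have hle : ∀ i, (c i : Set T) ⊆ W := fun i =>
    Set.Subset.trans (show (c i : Set T) ⊆ (c.last : Set T) from c.monotone (Fin.le_last i)) hsub
  let c' : LTSeries (IrreducibleCloseds W) :=
    LTSeries.mk c.length (fun i =>
      ⟨Subtype.val ⁻¹' (c i : Set T),
        ⟨by
          obtain ⟨x, hx⟩ := (c i).isIrreducible.nonempty
          exact ⟨⟨x, hle i hx⟩, hx⟩,
         isPreirreducible_of_image IsEmbedding.subtypeVal.isInducing (by
           rw [Subtype.image_preimage_coe, Set.inter_eq_right.2 (hle i)]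
           exact (c i).isIrreducible.2)⟩,
        (c i).isClosed.preimage continuous_subtype_val⟩) (by
      intro i j hij
      have := c.strictMono hij
      refine ⟨fun x hx => this.le hx, fun h' => this.not_ge fun x hx => ?_⟩
      exact h' (show (⟨x, hle j hx⟩ : W) ∈ Subtype.val ⁻¹' (c j : Set T) from hx))
  exact le_iSup_of_le c' le_rfl

/-- Extending the ground field does not change the dimension. -/
theorem topologicalKrullDim_pullback {X : Scheme.{u}} (p : X ⟶ Spec (CommRingCat.of k))
    [LocallyOfFiniteType p] (L : Type u) [Field L] [Algebra k L] :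
    topologicalKrullDim ↥(pullback (Spec.map (CommRingCat.ofHom (algebraMap k L))) p) =
      topologicalKrullDim X := by
  let φ := Spec.map (CommRingCat.ofHom (algebraMap k L))
  let π := pullback.snd φ p
  have : Surjective φ := surjective_to_spec_field φ
  have hπ : Function.Surjective π := π.surjective
  refine le_antisymm (topologicalKrullDim_le_of_components _ fun W hW => ?_)
    (topologicalKrullDim_le_of_components _ fun S hS => ?_)
  · obtain ⟨S, hS, hsub⟩ := exists_mem_irreducibleComponents_subset_of_isIrreducible (π '' W)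
      (hW.1.image _ π.continuous.continuousOn)
    have hSc := isClosed_of_mem_irreducibleComponents S hS
    have hWS : W ⊆ π ⁻¹' S := fun x hx => hsub ⟨x, hx, rfl⟩
    have hW' : (Subtype.val ⁻¹' W : Set ↥(π ⁻¹' S)) ∈ irreducibleComponents ↥(π ⁻¹' S) := by
      have e : Subtype.val '' (Subtype.val ⁻¹' W : Set ↥(π ⁻¹' S)) = W := by
        rw [Subtype.image_preimage_coe, Set.inter_eq_right.2 hWS]
      refine ⟨⟨?_, ?_⟩, fun Z hZ hle x hx => ?_⟩
      · obtain ⟨x, hx⟩ := hW.1.nonempty
        exact ⟨⟨x, hWS hx⟩, hx⟩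
      · exact isPreirreducible_of_image IsEmbedding.subtypeVal.isInducing (by rw [e]; exact hW.1.2)
      · exact hW.2 (hZ.image Subtype.val continuous_subtype_val.continuousOn)
          (e.symm.le.trans (Set.image_mono hle)) ⟨x, hx, rfl⟩
    rw [← (Dim.IsEmbedding.topologicalKrullDim_eq (f := fun x : (Subtype.val ⁻¹' W : Set ↥(π ⁻¹' S)) => x.1.1)
      (IsEmbedding.subtypeVal.comp IsEmbedding.subtypeVal) (by
        ext y; exact ⟨fun ⟨x, hx⟩ => hx ▸ x.2, fun hy => ⟨⟨⟨y, hWS hy⟩, hy⟩, rfl⟩⟩) :
        topologicalKrullDim (Subtype.val ⁻¹' W : Set ↥(π ⁻¹' S)) = topologicalKrullDim W),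
      Dim.topologicalKrullDim_component_preimage p hSc hS.1 _ hW']
    exact topologicalKrullDim_subspace_le _ _
  · obtain ⟨x, hx⟩ := hS.1.nonempty
    obtain ⟨y, hy⟩ := hπ x
    have hSc := isClosed_of_mem_irreducibleComponents S hS
    let y' : ↥(π ⁻¹' S) := ⟨y, by rw [Set.mem_preimage, hy]; exact hx⟩
    rw [← Dim.topologicalKrullDim_component_preimage p hSc hS.1 _
      (irreducibleComponent_mem_irreducibleComponents y')]
    exact (topologicalKrullDim_subspace_le _ _).trans (topologicalKrullDim_subspace_le _ _)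

end GrothLib.CurveLocus

namespace GrothLib.CurveLocus

variable {k : Type u} [Field k]

/-- Fibres over field-valued points have the dimension of the scheme. -/
theorem topologicalKrullDim_of_isPullback {X X' : Scheme.{u}} (p : X ⟶ Spec (CommRingCat.of k))
    [LocallyOfFiniteType p] {Ω : Type u} [Field Ω] {t : Spec (CommRingCat.of Ω) ⟶ Spec (CommRingCat.of k)}
    {i : X' ⟶ X} {q : X' ⟶ Spec (CommRingCat.of Ω)} (h : IsPullback i q p t) :
    topologicalKrullDim X' = topologicalKrullDim X := by
  obtain ⟨alg, rfl⟩ := exists_algebra t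
  rw [(IsHomeomorph.topologicalKrullDim_eq _ h.flip.isoPullback.hom.homeomorph.isHomeomorph)]
  exact topologicalKrullDim_pullback p Ω

end GrothLib.CurveLocus
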