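import Mathlib.AlgebraicGeometry.Morphisms.Etale
import Mathlib.AlgebraicGeometry.Morphisms.QuasiFinite
import Mathlib.AlgebraicGeometry.Morphisms.Flat
import Mathlib.AlgebraicGeometry.Properties
import Mathlib.RingTheory.Ideal.KrullsHeightTheorem
import Mathlib.RingTheory.Unramified.LocalStructure
import Groth.Prelude.Def_CAlg
import Groth.Agent.Lib.CMFree.FiniteFlat
import Groth.Agent.Lib.LocProp.Stalk
import Groth.Agent.Lib.LocProp.StalkField

/-!
# Cohen–Macaulay local rings of dimension at most one and etale morphisms
-/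

universe u

open CategoryTheory Limits AlgebraicGeometry IsLocalRing

namespace GrothLib.CurveLocus

theorem isCM_iff_of_dim_le_one {R : Type u} [CommRing R] [IsLocalRing R] [IsNoetherianRing R]
    (hd : ringKrullDim R ≤ 1) :
    LocCoh.IsCohenMacaulayLocalRing R ↔
      ringKrullDim R ≤ 0 ∨ ∃ x ∈ maximalIdeal R, ∀ y : R, x * y = 0 → y = 0 := by
  constructor
  · intro h
    rcases le_or_gt (ringKrullDim R) 0 with h0 | h0
    · exact Or.inl h0
    refine Or.inr ?_
    have he := h.supportDim_eq_depth
    rw [Module.supportDim_self_eq_ringKrullDim] at he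
    have hne : maximalIdeal R • (⊤ : Submodule R R) ≠ ⊤ := by
      rw [smul_eq_mul, Ideal.mul_top]
      exact (maximalIdeal.isMaximal R).ne_top
    by_contra hx
    push Not at hx
    have : LocCoh.depth R R = 0 := by
      rw [LocCoh.depth, LocCoh.idealDepth, if_neg hne]
      refine le_antisymm (iSup₂_le fun rs hrs => ?_) bot_le
      rcases rs with _ | ⟨a, rs⟩
      · simp
      · exfalso
        obtain ⟨y, hy, hy0⟩ := hx a (hrs.2 a List.mem_cons_self)
        have := ((RingTheory.Sequence.isWeaklyRegular_cons_iff R a rs).1 hrs.1).1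
        exact hy0 (this (show a • y = a • 0 by simpa using hy))
    rw [this] at he
    exact h0.ne' (by simpa using he)
  · rintro (h0 | ⟨x, hx, hx0⟩)
    · exact CMFree.isCohenMacaulayLocalRing_of_weaklyRegular R [] (.nil R R) (by simp) (by simpa using h0)
    · refine CMFree.isCohenMacaulayLocalRing_of_weaklyRegular R [x] ?_ (by simpa using hx) (by simpa using hd)
      rw [RingTheory.Sequence.isWeaklyRegular_cons_iff]
      refine ⟨fun a b h => sub_eq_zero.1 (hx0 _ ?_), .nil R _⟩
      rw [mul_sub]; exact sub_eq_zero.2 h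

theorem isCM_of_ringEquiv {R S : Type u} [CommRing R] [CommRing S] (e : R ≃+* S)
    (hd : ringKrullDim R ≤ 1) (h : LocCoh.IsCohenMacaulayLocalRing R) :
    LocCoh.IsCohenMacaulayLocalRing S := by
  have := e.isLocalRing
  have := isNoetherianRing_of_ringEquiv R e
  have he := ringKrullDim_eq_of_ringEquiv e
  rw [isCM_iff_of_dim_le_one (he ▸ hd)]
  rcases (isCM_iff_of_dim_le_one hd).1 h with h0 | ⟨x, hx, hx0⟩
  · exact Or.inl (he ▸ h0)
  · refine Or.inr ⟨e x, ?_, fun y hy => ?_⟩
    · rw [mem_maximalIdeal, mem_nonunits_iff, MulEquiv.isUnit_map]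
      exact hx
    · have := hx0 (e.symm y) (e.injective (by simpa using hy))
      simpa using congrArg e this

/-- Ascent along flat local homomorphisms whose closed fibre is a field. -/
theorem isCM_of_flat_unramified {A B : Type u} [CommRing A] [CommRing B] [IsLocalRing B]
    [IsNoetherianRing B] [Algebra A B] [Module.Flat A B] [IsLocalRing A] (hd : ringKrullDim A ≤ 1)
    (hm : (maximalIdeal A).map (algebraMap A B) = maximalIdeal B)
    (h : LocCoh.IsCohenMacaulayLocalRing A) :
    LocCoh.IsCohenMacaulayLocalRing B ∧ ringKrullDim B ≤ 1 := by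
  rcases (isCM_iff_of_dim_le_one hd).1 h with h0 | ⟨x, hx, hx0⟩
  · -- dimension zero
    have : Ring.KrullDimLE 0 A := Ring.krullDimLE_iff.2 h0
    have hB : ringKrullDim B ≤ 0 := by
      rw [← maximalIdeal_height_eq_ringKrullDim]
      have : maximalIdeal B ∈ (⊥ : Ideal B).minimalPrimes := by
        refine ⟨⟨inferInstance, bot_le⟩, fun P hP _ => ?_⟩
        rw [← hm, Ideal.map_le_iff_le_comap]
        have := hP.1
        have := Ideal.IsPrime.comap (algebraMap A B) (K := P)
        have : (P.comap (algebraMap A B)).IsMaximal := Ideal.isMaximal_of_isPrime _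
        exact (eq_maximalIdeal this).ge
      rw [Ideal.height_eq_zero_iff.2 this]
      exact le_rfl
    exact ⟨(isCM_iff_of_dim_le_one (hB.trans (by norm_num))).2 (Or.inl hB), hB.trans (by norm_num)⟩
  · have hxB : algebraMap A B x ∈ maximalIdeal B := hm ▸ Ideal.mem_map_of_mem _ hx
    have hreg : ∀ y : B, algebraMap A B x * y = 0 → y = 0 := by
      have hA : IsSMulRegular A x := fun a b hab => sub_eq_zero.1 (hx0 _ (by
        rw [mul_sub]; exact sub_eq_zero.2 hab))
      have := IsSMulRegular.of_flat (S := B) hA
      exact fun y hy => this (by simpa [Algebra.smul_def] using hy)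
    have hB : ringKrullDim B ≤ 1 := by
      rw [← maximalIdeal_height_eq_ringKrullDim]
      have : maximalIdeal B ∈ (Ideal.span {algebraMap A B x}).minimalPrimes := by
        refine ⟨⟨inferInstance, (Ideal.span_singleton_le_iff_mem _).2 hxB⟩, fun P hP _ => ?_⟩
        rw [← hm, Ideal.map_le_iff_le_comap]
        have := hP.1
        set Q := P.comap (algebraMap A B)
        have hQ : Q.IsPrime := Ideal.IsPrime.comap _
        have hxQ : x ∈ Q := hP.2 (Ideal.mem_span_singleton_self _)
        by_contra hne
        have hlt : Q < maximalIdeal A := lt_of_le_of_ne (le_maximalIdeal hQ.ne_top) fun e => hne e.ge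
        have h1 : (maximalIdeal A).height ≤ 1 := by
          rw [← maximalIdeal_height_eq_ringKrullDim] at hd
          exact_mod_cast hd
        have h2 : Q.height < 1 := lt_of_lt_of_le (Ideal.height_strict_mono_of_isPrime_of_isPrime hlt) h1
        have h3 : Q ∈ minimalPrimes A := by
          rw [← Ideal.height_eq_zero_iff]
          exact ENat.lt_one_iff_eq_zero.1 h2
        exact (Set.disjoint_left.1 (Ideal.disjoint_nonZeroDivisors_of_mem_minimalPrimes h3) hxQ)
          (mem_nonZeroDivisors_iff_right.2 fun y hy => hx0 y (by rwa [mul_comm]))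
      exact_mod_cast Ideal.height_le_one_of_isPrincipal_of_mem_minimalPrimes _ _ this
    exact ⟨(isCM_iff_of_dim_le_one hB).2 (Or.inr ⟨_, hxB, hreg⟩), hB⟩

variable {k : Type u} [Field k]

/-- The local rings of a scheme etale over a field are fields, and its points are open. -/
theorem isOpenImmersion_fromSpecResidueField {V : Scheme.{u}} (v : V ⟶ Spec (CommRingCat.of k)) [Etale v]
    (y : V) : IsOpenImmersion (V.fromSpecResidueField y) ∧ IsField (V.presheaf.stalk y) := by
  have hK : IsField ((Spec (CommRingCat.of k)).presheaf.stalk (v y)) := by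
    have e : v y = genericPoint (Spec (CommRingCat.of k)) := Subsingleton.elim _ _
    rw [e]
    exact Field.toIsField (Spec (CommRingCat.of k)).functionField
  have hF : IsField (V.presheaf.stalk y) := by
    have hu := (GrothLib.LocProp.formallyUnramified_nhd_iff v y).1
      ⟨⊤, trivial, inferInstance⟩
    obtain ⟨h1, -⟩ := (GrothLib.LocProp.formallyUnramified_stalk_iff v y).1 hu
    rw [IsLocalRing.isField_iff_maximalIdeal_eq] at hK ⊢
    rw [← h1, hK, Ideal.map_bot]
  have : LocallyQuasiFinite v := by
    rw [HasRingHomProperty.iff_appLE (P := @LocallyQuasiFinite)]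
    intro U W e
    have he := HasRingHomProperty.appLE (P := @Etale) v inferInstance U W e
    algebraize [(v.appLE U W e).hom]
    exact (inferInstance : Algebra.QuasiFinite Γ(Spec (CommRingCat.of k), U) Γ(V, W))
  have : IsLocallyArtinian V := IsLocallyArtinian.of_locallyQuasiFinite v
  have : DiscreteTopology V := (IsLocallyArtinian.iff_isLocallyNoetherian_and_discreteTopology.1 ‹_›).2
  refine ⟨?_, hF⟩
  rw [IsOpenImmersion.iff_isIso_stalkMap]
  refine ⟨⟨(V.fromSpecResidueField y).isEmbedding, isOpen_discrete _⟩, fun z => ?_⟩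
  have hz : V.fromSpecResidueField y z = y := by
    have := Set.mem_range_self (f := V.fromSpecResidueField y) z
    rwa [Scheme.range_fromSpecResidueField, Set.mem_singleton_iff] at this
  have hF' : IsField (V.presheaf.stalk (V.fromSpecResidueField y z)) := by rw [hz]; exact hF
  let := hF'.toField
  rw [ConcreteCategory.isIso_iff_bijective]
  exact ⟨((V.fromSpecResidueField y).stalkMap z).hom.injective,
    (V.fromSpecResidueField y).stalkMap_surjective z⟩

/-- Fibres of a morphism to a scheme etale over a field are open subschemes. -/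
theorem isOpenImmersion_fiberι {U V : Scheme.{u}} (h : U ⟶ V) (v : V ⟶ Spec (CommRingCat.of k)) [Etale v]
    (y : V) : IsOpenImmersion (h.fiberι y) :=
  haveI := (isOpenImmersion_fromSpecResidueField v y).1
  MorphismProperty.pullback_fst _ _ inferInstance

theorem flat_stalkMap {U V : Scheme.{u}} (h : U ⟶ V) (v : V ⟶ Spec (CommRingCat.of k)) [Etale v]
    (x : U) : (h.stalkMap x).hom.Flat := by
  let := (isOpenImmersion_fromSpecResidueField v (h x)).2.toField
  let := (h.stalkMap x).hom.toAlgebra
  exact (inferInstance : Module.Flat (V.presheaf.stalk (h x)) (U.presheaf.stalk x))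

/-- The local ring of the fibre is the local ring of the scheme. -/
noncomputable def fiberStalkEquiv {U V : Scheme.{u}} (h : U ⟶ V) (v : V ⟶ Spec (CommRingCat.of k)) [Etale v]
    (x : U) : (h.fiber (h x)).presheaf.stalk (h.asFiber x) ≃+* U.presheaf.stalk x :=
  haveI := isOpenImmersion_fiberι h v (h x)
  ((asIso ((h.fiberι (h x)).stalkMap (h.asFiber x))).symm ≪≫
    U.presheaf.stalkCongr (.of_eq (h.fiberι_asFiber x))).commRingCatIsoToRingEquiv

end GrothLib.CurveLocus
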