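import Mathlib.AlgebraicGeometry.Morphisms.Smooth
import Mathlib.AlgebraicGeometry.Morphisms.LocalFlatDescent
import Mathlib.AlgebraicGeometry.Morphisms.Proper
import Mathlib.AlgebraicGeometry.Morphisms.QuasiFinite
import Groth.Agent.Lib.CurveLocus.Basic

/-!
# Finiteness of the non-smooth locus and extensions of the ground field
-/

universe u

open CategoryTheory Limits AlgebraicGeometry Topology TopologicalSpace

namespace GrothLib.CurveLocus

/-- The set of points near which `q` is not smooth. -/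
def nonsmooth {X Y : Scheme.{u}} (q : X ⟶ Y) : Set X := {x | ¬ ∃ U : X.Opens, x ∈ U ∧ Smooth (U.ι ≫ q)}

theorem isClosed_nonsmooth {X Y : Scheme.{u}} (q : X ⟶ Y) : IsClosed (nonsmooth q) := by
  refine ⟨isOpen_iff_forall_mem_open.2 fun x hx => ?_⟩
  obtain ⟨U, hxU, hU⟩ := not_not.1 hx
  exact ⟨U, fun y hy h => h ⟨U, hy, hU⟩, U.2, hxU⟩

/-- Opens avoiding the non-smooth points are smooth. -/
theorem smooth_of_disjoint {X Y : Scheme.{u}} (q : X ⟶ Y) [LocallyOfFinitePresentation q] (V : X.Opens)
    (h : ∀ x ∈ V, x ∉ nonsmooth q) : Smooth (V.ι ≫ q) := by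
  rw [← Scheme.Hom.smoothLocus_eq_top_iff, ← Scheme.Hom.preimage_smoothLocus_eq, eq_top_iff]
  rintro ⟨x, hx⟩ -
  obtain ⟨U, hxU, hU⟩ := not_not.1 (h x hx)
  have h1 : U.ι ⁻¹ᵁ q.smoothLocus = ⊤ := by
    rw [Scheme.Hom.preimage_smoothLocus_eq]; exact (U.ι ≫ q).smoothLocus_eq_top
  exact (h1.ge (show (⟨x, hxU⟩ : U) ∈ (⊤ : U.toScheme.Opens) from trivial) :)

/-- The points of a finite closed subset of a Jacobson space are closed. -/
theorem isClosed_singleton_of_finite {T : Type*} [TopologicalSpace T] [JacobsonSpace T] {Z : Set T}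
    (hZ : IsClosed Z) (hf : Z.Finite) {x : T} (hx : x ∈ Z) : IsClosed ({x} : Set T) := by
  have hsub : closure {x} ⊆ Z := closure_minimal (Set.singleton_subset_iff.2 hx) hZ
  have h1 : IsClosed (closure {x} ∩ closedPoints T) := by
    rw [← Set.biUnion_of_singleton (closure {x} ∩ closedPoints T)]
    exact Set.Finite.isClosed_biUnion (hf.subset fun y hy => hsub hy.1) fun y hy => hy.2
  have h2 : x ∈ closure (closure {x} ∩ closedPoints T) := by
    rw [JacobsonSpace.closure_inter_closedPoints_eq_closure isClosed_closure.isLocallyClosed, closure_closure]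
    exact subset_closure rfl
  rw [h1.closure_eq] at h2
  exact h2.2

variable {k : Type u} [Field k] {X : Scheme.{u}} (p : X ⟶ Spec (CommRingCat.of k)) [IsProper p]

theorem finite_nonsmooth_of_isPullback (hfin : (nonsmooth p).Finite) {Ω : Type u} [Field Ω]
    {t : Spec (CommRingCat.of Ω) ⟶ Spec (CommRingCat.of k)} {X' : Scheme.{u}} {i : X' ⟶ X}
    {q : X' ⟶ Spec (CommRingCat.of Ω)} (hsq : IsPullback i q p t) : (nonsmooth q).Finite := by
  have : JacobsonSpace X := LocallyOfFiniteType.jacobsonSpace p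
  have hsub : nonsmooth q ⊆ i ⁻¹' (nonsmooth p) := by
    intro y hy hiy
    obtain ⟨U, hiU, hU⟩ := hiy
    refine hy ⟨i ⁻¹ᵁ U, hiU, ?_⟩
    exact MorphismProperty.of_isPullback ((isPullback_morphismRestrict i U).paste_vert hsq) hU
  refine Set.Finite.subset ?_ hsub
  refine Set.Finite.preimage' hfin fun x hx => ?_
  have hxc : IsClosed ({x} : Set X) := isClosed_singleton_of_finite (isClosed_nonsmooth p) hfin hx
  have := isClosed_singleton_iff_isClosedImmersion.1 hxc
  have : IsFinite (X.fromSpecResidueField x ≫ p) :=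
    IsFinite.iff_isProper_and_isAffineHom.2 ⟨inferInstance, inferInstance⟩
  have : IsFinite (pullback.snd (X.fromSpecResidueField x) i ≫ q) :=
    MorphismProperty.of_isPullback (P := @IsFinite)
      ((IsPullback.of_hasPullback (X.fromSpecResidueField x) i).flip.paste_horiz hsq.flip).flip ‹_›
  have hfinW : Finite ↥(pullback (X.fromSpecResidueField x) i) := by
    rw [← Set.finite_univ_iff]
    refine Set.Finite.subset
      ((pullback.snd (X.fromSpecResidueField x) i ≫ q).finite_preimage_singleton (IsLocalRing.closedPoint Ω))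
      fun y _ => Subsingleton.elim (α := Spec (CommRingCat.of Ω)) _ _
  rw [← Scheme.range_fromSpecResidueField (x := x), ← Scheme.Pullback.range_snd]
  exact Set.finite_range _

theorem finite_nonsmooth_of_algClosure
    (h : (nonsmooth (pullback.snd p
      (Spec.map (CommRingCat.ofHom (algebraMap k (AlgebraicClosure k)))))).Finite) :
    (nonsmooth p).Finite := by
  set σ := Spec.map (CommRingCat.ofHom (algebraMap k (AlgebraicClosure k)))
  have : IsIntegralHom σ := by
    rw [IsIntegralHom.SpecMap_iff]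
    exact algebraMap_isIntegral_iff.2 inferInstance
  have : Surjective σ := surjective_to_spec_field σ
  let π := pullback.fst p σ
  let q := pullback.snd p σ
  have hc : IsClosed (π '' nonsmooth q) := π.isClosedMap _ (isClosed_nonsmooth q)
  refine Set.Finite.subset (h.image π) fun x hx => ?_
  by_contra hxn
  let U : X.Opens := ⟨(π '' nonsmooth q)ᶜ, hc.isOpen_compl⟩
  refine hx ⟨U, hxn, ?_⟩
  have h1 : Smooth ((π ⁻¹ᵁ U).ι ≫ q) := smooth_of_disjoint q _ fun y hy hy' => hy ⟨y, hy', rfl⟩
  have h2 : IsPullback (π ∣_ U) ((π ⁻¹ᵁ U).ι ≫ q) (U.ι ≫ p) σ :=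
    (isPullback_morphismRestrict π U).paste_vert (IsPullback.of_hasPullback p σ)
  exact MorphismProperty.of_isPullback_of_descendsAlong (Q := @Surjective ⊓ @Flat ⊓ @QuasiCompact)
    h2.flip ⟨⟨‹_›, flat_to_spec_field σ⟩, inferInstance⟩ h1

end GrothLib.CurveLocus
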